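import Groth.Agent.KFlat.ProjFormula
import Groth.Agent.LFFrame.Basic

/-!
# The projection map is an isomorphism for finite locally free modules
-/

set_option autoImplicit false

universe u

open CategoryTheory CategoryTheory.Limits AlgebraicGeometry MonoidalCategory Opposite
open Groth.Agent.KFlat.StalkTensor Groth.Agent.PullStalk.Sky Groth.Agent.PullStalk.Basic
open Groth.Agent.KFlat.StalkCx Groth.Agent.KFlat.ProjFormula

noncomputable section

namespace Groth.Agent.ProjForm

variable {X Y : Scheme.{u}} (f : X ⟶ Y)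

/-- A morphism that is an isomorphism at all points over `V` gives an isomorphism on stalks of the
direct images at the points of `V`. -/
theorem stalkIso_push_of_over {A B : X.Modules} (ψ : A ⟶ B) {V : Y.Opens}
    (h : ∀ x : X, f x ∈ V → StalkIso x ψ) {y : Y} (hy : y ∈ V) :
    StalkIso y ((Scheme.Modules.pushforward f).map ψ) := by
  have hb : ∀ W : X.Opens, W ≤ f ⁻¹ᵁ V → Function.Bijective (ψ.app W) := by
    intro W hW
    refine TopCat.Presheaf.app_bijective_of_stalkFunctor_map_bijective
      (F := ⟨A.presheaf, A.isSheaf⟩) (G := ⟨B.presheaf, B.isSheaf⟩) ⟨ψ.mapPresheaf⟩ W fun x hx => ?_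
    have hs := (stalkIso_iff x ψ).1 (h x (hW hx))
    refine (?_ : Function.Bijective (⇑((TopCat.Presheaf.stalkFunctor _ x).map ψ.mapPresheaf).hom))
    have he : ⇑((TopCat.Presheaf.stalkFunctor _ x).map ψ.mapPresheaf).hom =
        ⇑((DerSch.stalkFunctor X x).map ψ).hom := funext fun t => by
      obtain ⟨U, hU, m, rfl⟩ := exists_germM_eq A x t
      refine Eq.trans ?_ (DerSch.stalkFunctor_map_germ x ψ U hU m).symm
      exact TopCat.Presheaf.stalkFunctor_map_germ_apply U x hU ψ.mapPresheaf m
    rw [he]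
    exact hs
  rw [stalkIso_iff]
  constructor
  · rw [injective_iff_map_eq_zero]
    intro t ht
    obtain ⟨W, hW, m, rfl⟩ := exists_germM_eq ((Scheme.Modules.pushforward f).obj A) y t
    have ht' : germM ((Scheme.Modules.pushforward f).obj B) W y hW
        (((Scheme.Modules.pushforward f).map ψ).app W m) = 0 :=
      (DerSch.stalkFunctor_map_germ y _ W hW m).symm.trans ht
    obtain ⟨W', hW', i₁, i₂, he⟩ := ((Scheme.Modules.pushforward f).obj B).presheaf.germ_eq y hW hW
      (((Scheme.Modules.pushforward f).map ψ).app W m) 0 (ht'.trans (map_zero _).symm)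
    let j : W' ⊓ V ⟶ W := homOfLE (inf_le_left.trans i₁.le)
    have h0 : ((Scheme.Modules.pushforward f).map ψ).app (W' ⊓ V)
        (((Scheme.Modules.pushforward f).obj A).presheaf.map j.op m) = 0 := by
      refine (NatTrans.naturality_apply ((Scheme.Modules.pushforward f).map ψ).mapPresheaf j.op m).trans ?_
      have hj : j = homOfLE (inf_le_left : W' ⊓ V ≤ W') ≫ i₁ := Subsingleton.elim _ _
      rw [hj, op_comp, Functor.map_comp]
      refine (congrArg (((Scheme.Modules.pushforward f).obj B).presheaf.map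
        (homOfLE (inf_le_left : W' ⊓ V ≤ W')).op) (he.trans (map_zero _))).trans ?_
      exact map_zero _
    have h1 : ((Scheme.Modules.pushforward f).obj A).presheaf.map j.op m = 0 :=
      (hb (f ⁻¹ᵁ (W' ⊓ V)) (f.preimage_mono inf_le_right)).1 (h0.trans (map_zero (ψ.app (f ⁻¹ᵁ (W' ⊓ V))).hom).symm)
    refine (((Scheme.Modules.pushforward f).obj A).presheaf.germ_res_apply j y ⟨hW', hy⟩ m).symm.trans ?_
    rw [h1]
    exact map_zero _
  · intro t
    obtain ⟨W, hW, m, rfl⟩ := exists_germM_eq ((Scheme.Modules.pushforward f).obj B) y t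
    obtain ⟨a, ha⟩ := (hb (f ⁻¹ᵁ (W ⊓ V)) (f.preimage_mono inf_le_right)).2
      (((Scheme.Modules.pushforward f).obj B).presheaf.map (homOfLE (inf_le_left : W ⊓ V ≤ W)).op m)
    refine ⟨germM ((Scheme.Modules.pushforward f).obj A) (W ⊓ V) y ⟨hW, hy⟩ a, ?_⟩
    refine (DerSch.stalkFunctor_map_germ y ((Scheme.Modules.pushforward f).map ψ) (W ⊓ V) ⟨hW, hy⟩
      (show Γ((Scheme.Modules.pushforward f).obj A, W ⊓ V) from a)).trans ?_
    refine Eq.trans ?_ (((Scheme.Modules.pushforward f).obj B).presheaf.germ_res_apply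
      (homOfLE (inf_le_left : W ⊓ V ≤ W)) y ⟨hW, hy⟩ m)
    exact congrArg (germM ((Scheme.Modules.pushforward f).obj B) (W ⊓ V) y ⟨hW, hy⟩) ha

theorem stalkIso_G₂_map (M : X.Modules) {N N' : Y.Modules} (φ : N ⟶ N') {V : Y.Opens}
    (h : ∀ y ∈ V, StalkIso y φ) {y : Y} (hy : y ∈ V) : StalkIso y ((G₂ f M).map φ) := by
  refine stalkIso_push_of_over f ((F₂ f M).map φ) (fun x hx => ?_) hy
  have := h (f x) hx
  have := stalkIso_pull f x φ
  exact stalkIso_tensor M ((Scheme.Modules.pullback f).map φ)

/-- The projection map at a module is an isomorphism on the stalk at `y` as soon as this holds for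
a module mapping to it isomorphically near `y`. -/
theorem stalkIso_θ_iff (M : X.Modules) {N N' : Y.Modules} (φ : N ⟶ N') {V : Y.Opens}
    (h : ∀ y ∈ V, StalkIso y φ) {y : Y} (hy : y ∈ V) :
    StalkIso y ((θ f M).app N) ↔ StalkIso y ((θ f M).app N') := by
  have h₁ : StalkIso y ((G₁ f M).map φ) :=
    have := h y hy
    stalkIso_tensor ((Scheme.Modules.pushforward f).obj M) φ
  have h₂ := stalkIso_G₂_map f M φ h hy
  have e := congrArg (DerSch.stalkFunctor Y y).map ((θ f M).naturality φ)
  rw [Functor.map_comp, Functor.map_comp] at e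
  constructor
  · intro hN
    have hc : IsIso ((DerSch.stalkFunctor Y y).map ((G₁ f M).map φ) ≫
        (DerSch.stalkFunctor Y y).map ((θ f M).app N')) := by
      rw [e]
      infer_instance
    exact IsIso.of_isIso_comp_left ((DerSch.stalkFunctor Y y).map ((G₁ f M).map φ)) _
  · intro hN'
    have hc : IsIso ((DerSch.stalkFunctor Y y).map ((θ f M).app N) ≫
        (DerSch.stalkFunctor Y y).map ((G₂ f M).map φ)) := by
      rw [← e]
      infer_instance
    exact IsIso.of_isIso_comp_right _ ((DerSch.stalkFunctor Y y).map ((G₂ f M).map φ))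

theorem stalkIso_θ_fU (M : X.Modules) {V : Y.Opens} {y : Y} (hy : y ∈ V) :
    StalkIso y ((θ f M).app (fU V)) := by
  refine (stalkIso_θ_iff f M (toUnit V) (fun z hz => stalkIso_toUnit V hz) hy).2 ?_
  have := isIso_θ_unit f M
  infer_instance

instance additive_G₁ (M : X.Modules) : (G₁ f M).Additive := inferInstance

instance additive_G₂ (M : X.Modules) : (G₂ f M).Additive := inferInstance

theorem stalkIso_θ_sigma (M : X.Modules) {κ : Type} [Finite κ] (N : κ → Y.Modules) {y : Y}
    (h : ∀ i, StalkIso y ((θ f M).app (N i))) : StalkIso y ((θ f M).app (∐ N)) := by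
  let τ := Functor.whiskerRight (θ f M) (DerSch.stalkFunctor Y y)
  have : PreservesColimitsOfShape (Discrete κ) (G₁ f M ⋙ DerSch.stalkFunctor Y y) :=
    preservesCoproductsOfShape_of_preservesBiproductsOfShape _
  have : PreservesColimitsOfShape (Discrete κ) (G₂ f M ⋙ DerSch.stalkFunctor Y y) :=
    preservesCoproductsOfShape_of_preservesBiproductsOfShape _
  have : ∀ j, IsIso (τ.app ((Discrete.functor N).obj j)) := fun j => h j.as
  exact Groth.Agent.KFlat.isIso_app_of_isColimit τ (colimit.isColimit (Discrete.functor N))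

/-- The sum of the maps given by sections over `U`. -/
def frameMap {N : Y.Modules} {U : Y.Opens} {n : ℕ} (e : Fin n → Γ(N, U)) :
    (∐ fun _ : Fin n => fU U) ⟶ N :=
  Sigma.desc fun i => (Groth.Agent.KFlat.freeUEquiv (O := Y.sheaf) U N).symm (e i)

theorem stalkIso_frameMap {N : Y.Modules} {U : Y.Opens} {n : ℕ} {e : Fin n → Γ(N, U)}
    (he : LFFrame.IsFrame N U e) {y : Y} (hy : y ∈ U) : StalkIso y (frameMap e) := by
  rw [stalkIso_iff]
  let P : Y.Modules := ∐ fun _ : Fin n => fU U
  let ι : ∀ i, fU U ⟶ P := Sigma.ι (fun _ : Fin n => fU U)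
  let t : Fin n → P.presheaf.stalk y := fun i =>
    germM P U y hy ((ι i).app U (gen U))
  let γ := Fintype.linearCombination (Y.presheaf.stalk y) t
  let c : P.presheaf.stalk y →ₗ[Y.presheaf.stalk y] N.presheaf.stalk y :=
    ((DerSch.stalkFunctor Y y).map (frameMap e)).hom
  have hc : ∀ i, c (t i) = germM N U y hy (e i) := fun i => by
    refine (DerSch.stalkFunctor_map_germ y (frameMap e) U hy ((ι i).app U (gen U))).trans ?_
    refine congrArg (germM N U y hy) ?_
    refine (congrArg (fun g : fU U ⟶ N => g.app U (gen U))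
      (Sigma.ι_desc (fun i => (Groth.Agent.KFlat.freeUEquiv (O := Y.sheaf) U N).symm (e i)) i)).trans ?_
    exact (app_gen U _).trans ((Groth.Agent.KFlat.freeUEquiv (O := Y.sheaf) U N).apply_symm_apply _)
  have hγ : Function.Surjective γ := by
    rw [← LinearMap.range_eq_top]
    let R := LinearMap.range γ
    let q : (DerSch.stalkFunctor Y y).obj P ⟶ ModuleCat.of _ (P.presheaf.stalk y ⧸ R) :=
      ModuleCat.ofHom R.mkQ
    suffices hq : q = 0 by
      refine eq_top_iff.2 fun p _ => ?_
      exact (Submodule.Quotient.mk_eq_zero R).1 (congrArg (fun φ => φ.hom p) hq)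
    refine ((stalkSkyAdj y).homEquiv _ _).injective (Sigma.hom_ext _ _ fun i => ?_)
    refine ((stalkSkyAdj y).homEquiv_naturality_left (ι i) q).symm.trans
      (Eq.trans ?_ ((stalkSkyAdj y).homEquiv_naturality_left (ι i) 0))
    refine congrArg ((stalkSkyAdj y).homEquiv _ _) (stalk_hom_ext_gen hy _ _ ?_)
    change R.mkQ (((DerSch.stalkFunctor Y y).map (ι i)).hom (germM (fU U) U y hy (gen U))) = 0
    rw [DerSch.stalkFunctor_map_germ]
    refine (Submodule.Quotient.mk_eq_zero R).2 ⟨Pi.single i 1, ?_⟩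
    rw [Fintype.linearCombination_apply_single, one_smul]
  have hcγ : c.comp γ = LFFrame.stalkComb N e y hy := by
    refine LinearMap.ext fun a => ?_
    rw [LinearMap.comp_apply]
    simp only [γ, LFFrame.stalkComb, Fintype.linearCombination_apply, map_sum, map_smul, hc]
  have hb : Function.Bijective (c ∘ γ) := by
    rw [← LinearMap.coe_comp, hcγ]
    exact he.stalkComb_bijective y hy
  exact ⟨fun p q hpq => by
    obtain ⟨a, rfl⟩ := hγ p
    obtain ⟨b, rfl⟩ := hγ q
    exact congrArg γ (hb.1 hpq), hb.2.of_comp⟩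

/-- The projection map is an isomorphism at finite locally free modules. -/
theorem isIso_θ_of_isFinLocFree (M : X.Modules) {N : Y.Modules} (hN : FlatMod.IsFinLocFree N) :
    IsIso ((θ f M).app N) := by
  refine KFlat.PullTensor.isIso_of_stalk_bijective _ fun y => ?_
  rw [← stalkIso_iff]
  obtain ⟨U, n, e, hy, he⟩ := LFFrame.exists_isFrame_of_isFinLocFree hN y
  exact (stalkIso_θ_iff f M (frameMap e) (fun z hz => stalkIso_frameMap he hz) hy).1
    (stalkIso_θ_sigma f M _ fun _ => stalkIso_θ_fU f M hy)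

end Groth.Agent.ProjForm
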