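import Groth.Agent.ProjForm.Injective
import Groth.Agent.ProjForm.Theta
import Groth.Agent.KFlat.LocFree
import Groth.Agent.ModShf.Flasque

/-!
# The projection formula for higher direct images
-/

set_option autoImplicit false

universe u

open CategoryTheory CategoryTheory.Limits AlgebraicGeometry MonoidalCategory
open Groth.Agent.KFlat.StalkTensor

noncomputable section

namespace Groth.Agent.ProjForm

variable {X Y : Scheme.{u}}

/-- `A ↦ A ⊗ E`, as a functor. -/
abbrev tensBy (E : X.Modules) : X.Modules ⥤ X.Modules := (ModSite.tensorBi X.sheaf).flip.obj E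

instance additive_tensBy (E : X.Modules) : (tensBy E).Additive := KFlat.additive_tensorBi_flip E

theorem preservesFiniteColimits_tensBy (E : X.Modules) : PreservesFiniteColimits (tensBy E) := by
  have : PreservesColimitsOfSize.{0, 0} (tensBy E) :=
    KFlat.TensorLocFree.preservesColimits_tensorBi_flip_obj E
  exact PreservesColimitsOfSize.preservesFiniteColimits _

theorem preservesFiniteLimits_tensBy {E : X.Modules} (hE : FlatMod.IsFinLocFree E) :
    PreservesFiniteLimits (tensBy E) := by
  have := preservesFiniteColimits_tensBy E
  have : (tensBy E).PreservesMonomorphisms := ⟨fun g _ => ChgRings.mono_tensR_map hE g⟩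
  have : (tensBy E).PreservesHomology :=
    (tensBy E).preservesHomology_of_preservesMonos_and_cokernels
  exact (tensBy E).preservesFiniteLimits_of_preservesHomology

variable (f : X ⟶ Y) {E : Y.Modules}

/-- `f_* A ⊗ E ≅ f_*(A ⊗ f^* E)`, naturally in `A`. -/
def projNatIso (hE : FlatMod.IsFinLocFree E) :
    Scheme.Modules.pushforward f ⋙ tensBy E ≅
      tensBy ((Scheme.Modules.pullback f).obj E) ⋙ Scheme.Modules.pushforward f :=
  NatIso.ofComponents
    (fun A => @asIso _ _ _ _ ((KFlat.ProjFormula.θ f A).app E) (isIso_θ_of_isFinLocFree f A hE))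
    (fun {_ _} φ => KFlat.ProjFormula.θ_left f φ E)

/-- Injective objects are a good class for any left exact functor. -/
theorem injective_goodClass {B C : Type*} [Category B] [Abelian B] [Category C] [Abelian C]
    (F : B ⥤ C) [F.Additive] :
    ModShf.AcyclicRes.GoodClass F (fun M : B => Injective M) where
  of_injective _ h := h
  coker S hS h₁ h₂ := by
    have : Injective S.X₁ := h₁
    have : Injective S.X₂ := h₂
    let σ := hS.splittingOfInjective
    exact Retract.injective (X := S.X₃) (Y := S.X₂) ⟨σ.s, S.g, σ.s_g⟩
  epi S hS h₁ := by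
    have : Injective S.X₁ := h₁
    let σ := hS.splittingOfInjective
    have := σ.isSplitEpi_g
    infer_instance

/-- The projection formula. -/
theorem nonempty_rpush_tensor [HasInjectiveResolutions X.Modules]
    (F : X.Modules) (hE : FlatMod.IsFinLocFree E) (q : ℕ) :
    Nonempty (tensM E ((Coh.Rpush f q).obj F) ≅
      (Coh.Rpush f q).obj (tensM ((Scheme.Modules.pullback f).obj E) F)) := by
  let E' := (Scheme.Modules.pullback f).obj E
  have hE' : FlatMod.IsFinLocFree E' := KFlat.LocFree.isFinLocFree_pull f hE
  have := preservesFiniteColimits_tensBy E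
  have := preservesFiniteLimits_tensBy hE
  have := preservesFiniteColimits_tensBy E'
  have := preservesFiniteLimits_tensBy hE'
  have : EnoughInjectives X.Modules := ModShf.schemeModulesEnoughInjectives X
  have : PreservesLimitsOfSize.{0, 0} (Scheme.Modules.pushforward f) :=
    (Scheme.Modules.pullbackPushforwardAdjunction f).rightAdjoint_preservesLimits
  have : PreservesFiniteLimits (Scheme.Modules.pushforward f) :=
    PreservesLimitsOfSize.preservesFiniteLimits _
  let e : Coh.Rpush f q ⋙ tensBy E ≅ tensBy E' ⋙ Coh.Rpush f q :=
    (ModShf.rightDerivedCompIso (Scheme.Modules.pushforward f) (tensBy E) q).symm ≪≫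
      RDer.rightDerivedIso (projNatIso f hE) q ≪≫
      ModShf.AcyclicRes.compareIso (tensBy E') (Scheme.Modules.pushforward f)
        (injective_goodClass (Scheme.Modules.pushforward f)) (fun I hI => injective_tensM_right hE' I) q
  exact ⟨ChgRings.commIso E _ ≪≫ e.app F ≪≫ (Coh.Rpush f q).mapIso (ChgRings.commIso F E')⟩

end Groth.Agent.ProjForm
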