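import Groth.Agent.ProjForm.Derived
import Groth.Agent.CohTop.Push
import Groth.Agent.ProjTwist.Tensor
import Groth.Agent.CohLin.Basic

/-!
# Cohomology of pullbacks when `Rf_* O = O`
-/

set_option autoImplicit false

universe u

open CategoryTheory CategoryTheory.Limits AlgebraicGeometry MonoidalCategory
open Groth.Agent.KFlat.StalkTensor Groth.Agent.KFlat.TensorLocFree

noncomputable section

namespace Groth.Agent.ProjForm

variable {X Y : Scheme.{u}} (f : X ⟶ Y)

theorem isFinLocFree_of_isInvertible {L : Y.Modules} (hL : PicF.IsInvertible L) :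
    FlatMod.IsFinLocFree L := fun y => by
  obtain ⟨U, hU, e⟩ := ProjTwist.isFinLocFreeOfRank_one hL y
  exact ⟨U, 1, hU, e⟩

/-- Degenerate Leray for modules with vanishing higher direct images. -/
theorem nonempty_HH_push [HasInjectiveResolutions X.Modules] (M : X.Modules)
    (h : ∀ i : ℕ, IsZero ((Coh.Rpush f (i + 1)).obj M)) (p : ℕ) :
    Nonempty (Coh.HH X M p ≃+ Coh.HH Y ((Scheme.Modules.pushforward f).obj M) p) := by
  have hv : Groth.Agent.CohTop.Push.HigherVanish f.base (Coh.toAb M) := by
    refine Groth.Agent.CohTop.Push.HigherVanish.of_isZero f.base _ fun q => ?_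
    exact IsZero.of_iso ((ModShf.toAbFunctor Y).map_isZero (h q))
      ((ModShf.rpushCompToAb f (q + 1)).app M).symm
  exact Groth.Agent.CohTop.Push.H_push_of_vanishing f.base (Coh.toAb M) hv p

/-- If `R^i f_* O = 0` for `i > 0` and `f_* O = O` then `H^p(X, f^* L) = H^p(Y, L)`. -/
theorem nonempty_HH_pullback [HasInjectiveResolutions X.Modules]
    (hR : ∀ i : ℕ, IsZero ((Coh.Rpush f (i + 1)).obj (Coh.structureModule X)))
    (h0 : Nonempty ((Coh.push f).obj (Coh.structureModule X) ≅ Coh.structureModule Y))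
    {L : Y.Modules} (hL : FlatMod.IsFinLocFree L) (p : ℕ) :
    Nonempty (Coh.HH X ((Scheme.Modules.pullback f).obj L) p ≃+ Coh.HH Y L p) := by
  obtain ⟨e0⟩ := h0
  let f' := (Scheme.Modules.pullback f).obj L
  let eX : tensM f' (Coh.structureModule X) ≅ f' :=
    ChgRings.commIso f' (Coh.structureModule X) ≪≫ unitTensorIso f'
  have hz : ∀ i : ℕ, IsZero ((Coh.Rpush f (i + 1)).obj f') := fun i => by
    obtain ⟨e⟩ := nonempty_rpush_tensor f (Coh.structureModule X) hL (i + 1)
    have : IsZero (tensM L ((Coh.Rpush f (i + 1)).obj (Coh.structureModule X))) :=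
      have : ((ModSite.tensorBi Y.sheaf).obj L).Additive := inferInstance
      ((ModSite.tensorBi Y.sheaf).obj L).map_isZero (hR i)
    exact IsZero.of_iso this ((Coh.Rpush f (i + 1)).mapIso eX.symm ≪≫ e.symm)
  obtain ⟨e⟩ := nonempty_HH_push f f' hz p
  let a : (Scheme.Modules.pushforward f).obj (tensM (Coh.structureModule X) f') ≅
      tensM ((Scheme.Modules.pushforward f).obj (Coh.structureModule X)) L :=
    (@asIso _ _ _ _ ((KFlat.ProjFormula.θ f (Coh.structureModule X)).app L)
      (isIso_θ_of_isFinLocFree f (Coh.structureModule X) hL)).symm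
  let b : (Scheme.Modules.pushforward f).obj f' ≅ L :=
    (Scheme.Modules.pushforward f).mapIso (unitTensorIso f').symm ≪≫ a ≪≫
      ((ModSite.tensorBi Y.sheaf).mapIso e0).app L ≪≫ unitTensorIso L
  exact ⟨e.trans (CohLin.hIso b p).toAddEquiv⟩

end Groth.Agent.ProjForm
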