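import Groth.Agent.InjMod.Scheme
import Groth.Agent.InjMod.Coprod
import Groth.Agent.ChgRings.Basic
import Groth.Agent.KFlat.TensorLocFree

/-!
# A finite locally free module tensored with an injective module is injective
-/

set_option autoImplicit false

universe u

open CategoryTheory CategoryTheory.Limits AlgebraicGeometry MonoidalCategory
open Groth.Agent.KFlat.StalkTensor Groth.Agent.KFlat.TensorLocFree

noncomputable section

namespace Groth.Agent.ProjForm

variable {X : Scheme.{u}}

/-- `E ⊗ I` is injective for `E` finite locally free and `I` injective. -/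
theorem injective_tensM_left {E : X.Modules} (hE : FlatMod.IsFinLocFree E) (I : X.Modules) [Injective I] :
    Injective (tensM E I) := by
  refine InjMod.injective_of_locally _ fun x => ?_
  obtain ⟨U, n, hU, ⟨a⟩⟩ := hE x
  refine ⟨U, hU, ?_⟩
  have hI : Injective (I.restrict U.ι) := InjMod.injective_restrict U I
  let e : (tensM E I).restrict U.ι ≅ ∐ fun _ : Fin n => I.restrict U.ι :=
    restrictTensorIso E I U ≪≫
      ((ModSite.tensorBi (U : Scheme.{u}).sheaf).mapIso a).app (I.restrict U.ι) ≪≫
      PreservesCoproduct.iso ((ModSite.tensorBi (U : Scheme.{u}).sheaf).flip.obj (I.restrict U.ι))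
        (fun _ : Fin n => Coh.structureModule (U : Scheme.{u})) ≪≫
      Sigma.mapIso (fun _ => unitTensorIso (I.restrict U.ι))
  exact Injective.of_iso e.symm (InjMod.injective_finite_coproduct _ fun _ => hI)

/-- `I ⊗ E` is injective for `E` finite locally free and `I` injective. -/
theorem injective_tensM_right {E : X.Modules} (hE : FlatMod.IsFinLocFree E) (I : X.Modules) [Injective I] :
    Injective (tensM I E) :=
  have := injective_tensM_left hE I
  Injective.of_iso (ChgRings.commIso E I) inferInstance

end Groth.Agent.ProjForm
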